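import Cfsg.Agent.H649.VanSp4.Tor
import Cfsg.Agent.H272.Eight.Degs
import Cfsg.Agent.H561.Eight.Blk
import Cfsg.Agent.H175.Eight.L3

/-!
# `PSp₄(4)` has an irreducible character of degree `18` (helper548)

The principal `17`-block has `e = 4`; its nonexceptional signed degrees are `1`, `256`, `-50` and `z ≡ 1 (17)`, and
`|207 + z|` is the exceptional degree: `z = 18`.
-/

set_option autoImplicit false
set_option maxRecDepth 100000

namespace Cfsg.Agent.H548.S8.Sp44

open Cfsg Subgroup Cfsg.Agent.SmallSimple.DegreeData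

/-- the possible `z` -/
def bad (z : ℤ) : Bool :=
  Nat.beq (979200 % z.natAbs) 0 && (z % 17 == 1) && Nat.beq (979200 % (207 + z).natAbs) 0 && !(z == 18)

theorem chk : ((List.range 990).all fun m => !(bad m) && !(bad (-(m : ℤ)))) = true := by decide +kernel

theorem key {z : ℤ} (h0 : z ≠ 0) (h1 : z.natAbs ∣ 979200) (h2 : z ≡ 1 [ZMOD 17]) (h3 : (207 + z).natAbs ∣ 979200)
    (h4 : z ^ 2 ≤ 979200) : z = 18 := by
  by_contra hne
  have h5 : z.natAbs < 990 := by
    by_contra hcon
    have h6 : 990 * 990 ≤ z.natAbs * z.natAbs := Nat.mul_le_mul (by omega) (by omega)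
    have h7 : ((z.natAbs * z.natAbs : ℕ) : ℤ) = z ^ 2 := by
      push_cast
      rw [← sq, sq_abs]
    have h8 : ((990 * 990 : ℕ) : ℤ) ≤ ((z.natAbs * z.natAbs : ℕ) : ℤ) := by exact_mod_cast h6
    rw [h7] at h8
    norm_num at h8
    omega
  have h6 := List.all_eq_true.1 chk z.natAbs (List.mem_range.2 h5)
  rw [Bool.and_eq_true] at h6
  have h7 : bad z = true := by
    rw [bad, Bool.and_eq_true, Bool.and_eq_true, Bool.and_eq_true]
    refine ⟨⟨⟨?_, ?_⟩, ?_⟩, ?_⟩
    · rw [Nat.mod_eq_zero_of_dvd h1]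
      rfl
    · rw [beq_iff_eq]; exact h2
    · rw [Nat.mod_eq_zero_of_dvd h3]
      rfl
    · simpa using hne
  rcases Int.natAbs_eq z with h | h
  · rw [← h, h7] at h6
    exact absurd h6.1 (by decide)
  · rw [← h, h7] at h6
    exact absurd h6.2 (by decide)

variable {F : Type} [Field F] [Fintype F]

theorem card_psp (hF : Fintype.card F = 4) : Nat.card (PSp 2 F) = 979200 := by
  have h1 := H272.Eight.card_eq F
  rw [Nat.card_eq_fintype_card (α := F), hF] at h1
  generalize Nat.card (PSp 2 F) = N at h1 ⊢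
  norm_num at h1
  exact h1

theorem eighteen (hF : Fintype.card F = 4) : 18 ∈ charDegrees (PSp 2 F) := by
  have hp : Fact (Nat.Prime 17) := ⟨by norm_num⟩
  have hch : CharP F 2 := H175.Eight.charP_of_card (k := 2) Nat.prime_two (by rw [hF]; norm_num)
  have hN := card_psp hF
  have hfin : Finite (PSp 2 F) := Nat.finite_of_card_ne_zero (by rw [hN]; norm_num)
  have hq : Nat.card F = 4 := by rw [Nat.card_eq_fintype_card, hF]
  obtain ⟨T, -, hT, hTc⟩ := H649.VanSp4.cycExact_psp (F := F)
  rw [hF] at hT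
  have hR : ∃ R : Subgroup (PSp 2 F), Nat.card R = 17 ∧ centralizer (R : Set (PSp 2 F)) = R := by
    refine ⟨T, by rw [hT]; norm_num, ?_⟩
    obtain ⟨y, hy⟩ := exists_prime_orderOf_dvd_card' (G := T) 17 (by rw [hT]; norm_num)
    have hy1 : (y : PSp 2 F) ≠ 1 := by
      intro h
      have : y = 1 := Subtype.ext h
      rw [this, orderOf_one] at hy
      norm_num at hy
    have h1 : zpowers (y : PSp 2 F) = T := by
      refine Subgroup.eq_of_le_of_card_ge ((zpowers_le).2 y.2) ?_
      rw [Nat.card_zpowers, Subgroup.orderOf_coe, hy, hT]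
      norm_num
    have h2 : centralizer (T : Set (PSp 2 F)) = centralizer ({(y : PSp 2 F)} : Set (PSp 2 F)) := by
      conv_lhs => rw [← h1]
      rw [zpowers_eq_closure, centralizer_closure]
    rw [h2, hTc _ y.2 hy1]
  obtain ⟨M, P, hM, hP, hC, ⟨D⟩⟩ := H561.Eight.exists_blk (G := PSp 2 F) (p := 17) (by norm_num) hR
    (by rw [hN]; norm_num) (e := 4) (t := 4) (by norm_num) (by rw [hN])
  have ht : 4 * 4 = 17 - 1 := by norm_num
  have m256 : (256 : ℤ) ∈ D.degs := H561.Eight.mem_degs hM D hP hC ht (by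
      have := H272.Eight.deg_St F
      rw [hq] at this
      exact this) (by decide) (by decide) (by decide) (by decide) (by decide)
  have m50 : (-50 : ℤ) ∈ D.degs := H561.Eight.mem_degs hM D hP hC ht (by
      obtain ⟨a, ha, h⟩ := (H272.Eight.deg_CD F).1
      rw [hq] at ha
      have : a = 50 := by omega
      rw [this] at h
      exact h) (by decide) (by decide) (by decide) (by decide) (by decide)
  have hlen := D.length_degs
  have hsum := D.dexc_eq ht
  have hf := D.natAbs_dexc
  have hfd := D.f_dvd ht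
  have hsq := D.sum_sq_le
  have hspec := D.degs_spec hP
  have hmem : ∀ z ∈ D.degs, z.natAbs ∈ charDegrees (PSp 2 F) := by
    intro z hz
    obtain ⟨χ, hχ, rfl⟩ := List.mem_map.1 hz
    exact ⟨χ, (D.natAbs_sd (List.mem_cons_of_mem _ hχ)).symm⟩
  obtain ⟨l, hl⟩ : ∃ l, l = D.degs := ⟨_, rfl⟩
  rw [← hl] at m256 m50 hlen hsum hsq hspec hmem
  -- the third degree
  obtain ⟨z, hz, hzs, hzq⟩ : ∃ z ∈ l, l.sum = 256 + -50 + z ∧ z ^ 2 ≤ (l.map (· ^ 2)).sum := by
    obtain ⟨a, b, c, rfl⟩ : ∃ a b c, l = [a, b, c] := by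
      match l, hlen with
      | [a, b, c], _ => exact ⟨a, b, c, rfl⟩
    simp only [List.mem_cons, List.not_mem_nil, or_false, List.sum_cons, List.sum_nil, add_zero, List.map_cons,
      List.map_nil] at m256 m50 ⊢
    have s1 := sq_nonneg a
    have s2 := sq_nonneg b
    have s3 := sq_nonneg c
    rcases m256 with rfl | rfl | rfl <;> rcases m50 with h | h | h
    · norm_num at h
    · exact ⟨c, by tauto, by omega, by linarith⟩
    · exact ⟨b, by tauto, by omega, by linarith⟩
    · exact ⟨c, by tauto, by omega, by linarith⟩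
    · norm_num at h
    · exact ⟨a, by tauto, by omega, by linarith⟩
    · exact ⟨b, by tauto, by omega, by linarith⟩
    · exact ⟨a, by tauto, by omega, by linarith⟩
    · norm_num at h
  obtain ⟨h1, h2, h3⟩ := hspec z hz
  rw [hN] at h2 hfd
  have hz18 : z = 18 := by
    refine key h3 h2 (by exact_mod_cast h1) ?_ ?_
    · have h5 : (207 + z) = D.dexc := by rw [← hsum, hzs]; ring
      rw [h5, hf]
      exact hfd
    · rw [hN] at hsq
      have h6 : 0 ≤ (4 : ℤ) * (D.f : ℤ) ^ 2 := by positivity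
      push_cast at hsq
      linarith
  have := hmem z hz
  rw [hz18] at this
  exact this

end Cfsg.Agent.H548.S8.Sp44
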