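import Cfsg.Agent.H196.S8.Core
import Cfsg.Agent.H52.S8.LieExp
import Cfsg.Agent.H281.S8.He
import Cfsg.Agent.H690.S8.Lie
import Cfsg.Agent.H548.S8.Sp44
import Cfsg.Agent.H548.LieNum
import Cfsg.Agent.H688.Eight.Sp62
import Cfsg.Agent.S2600
import Cfsg.Agent.S0814
import Cfsg.Agent.H58.S8.Iso
import Cfsg.Agent.H55.OutGen
import Cfsg.Agent.H672.SporIM.RankRows
import Cfsg.Agent.NotCT.Orders

/-!
# S4908: the row SOC1 of `He` (helper548)

The residues modulo 17 and the least degree leave `2 ^ 7`, `2 ^ 8`, `2 ^ 9` as the only prime powers. The groups of Lie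
type with such a Steinberg degree are `L₂(128)`, `L₂(256)`, `L₂(512)`, `L₃(8)`, `U₃(8)` (excluded by the primes of their
order), `PSp₄(4)` (degree 18, `|Out| = 4`) and `Sp₆(2)` (degree 7, `|Out| = 1`).
-/

set_option autoImplicit false
set_option maxRecDepth 100000

namespace Cfsg.Agent.H548.S8.He

open Cfsg Subgroup
open Cfsg.Agent.H196.S8 Cfsg.Agent.NotCT Cfsg.Agent.H657.DS
open Cfsg.Agent.H691.AN (AlmostSimple)

universe u v

/-- the admissible degrees of `He` -/
def okN (d : ℕ) : Bool :=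
  Nat.beq (4030387200 % d) 0 && ([0, 1, 8, 9, 16].contains (d % 17) && (Nat.beq d 1 || Nat.ble 42 d))

/-- the admissible degrees of `Aut He` -/
def ok (d : ℕ) : Bool := okN d || (Nat.beq (d % 2) 0 && okN (d / 2))

theorem deg_he {X : Type v} [Group X] (hX : Spor.IsoHe X) {d : ℕ} (hd : d ∈ charDegrees X) :
    d ∣ 4030387200 ∧ okN d = true := by
  obtain ⟨h1, h2, h3⟩ := H281.S8.He.degX hX hd
  refine ⟨h1, ?_⟩
  rw [okN, Bool.and_eq_true, Bool.and_eq_true, Bool.or_eq_true]
  refine ⟨by rw [Nat.mod_eq_zero_of_dvd h1]; rfl, ?_, ?_⟩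
  · rcases h3 with h | h | h | h | h <;> rw [h] <;> rfl
  · rcases h2 with rfl | h
    · exact Or.inl rfl
    · exact Or.inr (Nat.ble_eq_true_of_le h)

theorem deg_X {X : Type v} [Group X] (h : Spor.IsoHe X)
    {D : Set ℕ} (hD : H704.S8.Deg 2 X D) {d : ℕ} (hd : d ∈ D) : d ∣ 8060774400 ∧ ok d = true := by
  have hfin : Finite X := by
    obtain ⟨e⟩ := h
    have := H281.S8.He.fin
    exact Finite.of_equiv _ e.symm.toEquiv
  rcases hD with rfl | ⟨-, rfl⟩
  · obtain ⟨h1, h2⟩ := deg_he h hd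
    refine ⟨h1.trans (by norm_num), ?_⟩
    rw [ok, h2]; rfl
  · have hout : (MulAut.conj : X →* MulAut X).range.index ∣ 2 := by
      obtain ⟨e⟩ := h
      rw [H498.SporOut.index_congr e]
      exact Cfsg.Agent.S2075.result.dvd
    have hN : ((MulAut.conj : X →* MulAut X).range).Normal := by
      refine ⟨?_⟩
      rintro _ ⟨x, rfl⟩ g
      exact ⟨g x, by
        ext y
        simp⟩
    obtain ⟨f, hf, ⟨c, rfl⟩, h2⟩ := H424.DegTools.clifford_down ((MulAut.conj : X →* MulAut X).range) hd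
    have hf' : f ∈ charDegrees X := H424.DegTools.charDegrees_of_surjective
      (MulAut.conj : X →* MulAut X).rangeRestrict (MonoidHom.rangeRestrict_surjective _) hf
    obtain ⟨h3, h4⟩ := deg_he h hf'
    rw [Nat.mul_div_cancel_left _ (H424.DegTools.pos_of_mem hf)] at h2
    rcases (Nat.dvd_prime Nat.prime_two).1 (h2.trans hout) with rfl | rfl
    · rw [mul_one]
      refine ⟨h3.trans (by norm_num), ?_⟩
      rw [ok, h4]; rfl
    · refine ⟨(Nat.mul_dvd_mul_right h3 2).trans (by norm_num), ?_⟩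
      have h5 : okN (f * 2 / 2) = true := by rw [Nat.mul_div_cancel _ (by norm_num)]; exact h4
      have h6 : Nat.beq (f * 2 % 2) 0 = true := by rw [Nat.mul_mod_left]; rfl
      rw [ok, h5, h6]
      simp

theorem pp_chk : ∀ r ∈ [2, 3, 5, 7, 17], ∀ v ∈ List.range 40, 1 ≤ v →
    r ^ v ∣ 8060774400 ∧ ok (r ^ v) = true → r = 2 ∧ (v = 1 ∨ v = 7 ∨ v = 8 ∨ v = 9) := by
  decide +kernel

theorem no_pp {r v : ℕ} (hr : r.Prime) (hv : 0 < v) (h1 : r ^ v ∣ 8060774400) (h2 : ok (r ^ v) = true) :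
    r = 2 ∧ (v = 1 ∨ v = 7 ∨ v = 8 ∨ v = 9) := by
  have h3 : r ∈ ([(2, 11), (3, 3), (5, 2), (7, 3), (17, 1)] : List (ℕ × ℕ)).map Prod.fst :=
    prime_mem hr _
    (fun x hx => by
      simp only [List.mem_cons, List.not_mem_nil, or_false] at hx
      rcases hx with rfl | rfl | rfl | rfl | rfl <;> norm_num)
    (by
      rw [show H653.Sieve.facProd [(2, 11), (3, 3), (5, 2), (7, 3), (17, 1)] = 8060774400 by decide +kernel]
      exact (dvd_pow_self r hv.ne').trans h1)
  have h4 : v < 40 := by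
    by_contra hcon
    have h5 : 2 ^ 40 ≤ r ^ v := (Nat.pow_le_pow_right (by norm_num) (by omega)).trans (Nat.pow_le_pow_left hr.two_le v)
    have h6 := Nat.le_of_dvd (by norm_num) h1
    omega
  exact pp_chk r h3 v (List.mem_range.2 h4) hv ⟨h1, h2⟩

theorem low_chk : ∀ x ∈ [6, 7, 8, 9, 18, 36, 72],
    x ∣ 8060774400 → ok x = true → False := by
  decide +kernel

theorem typ7 {t : Typ} {k : ℕ} (hv : t.Valid 2 k) (hk : k * t.N = 7) : (t, k) ∈ [(Typ.L 2, 7)] :=
  typ_mem 2 7 _ (by decide +kernel) hv hk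

theorem typ8 {t : Typ} {k : ℕ} (hv : t.Valid 2 k) (hk : k * t.N = 8) : (t, k) ∈ [(Typ.L 2, 8), (Typ.S 2, 2)] :=
  typ_mem 2 8 _ (by decide +kernel) hv hk

theorem typ9 {t : Typ} {k : ℕ} (hv : t.Valid 2 k) (hk : k * t.N = 9) :
    (t, k) ∈ [(Typ.L 2, 9), (Typ.L 3, 3), (Typ.U 3, 3), (Typ.S 3, 1)] :=
  typ_mem 2 9 _ (by decide +kernel) hv hk

/-- a prime dividing the order -/
theorem dvd_typ {S : Type u} [Group S] {p k : ℕ} (hp : p.Prime) (t : Typ) (hv : t.Valid p k)
    (h : IsTyp t (p ^ k) S) {r : ℕ} (hr : r.Prime) (h1 : r ∣ (p ^ k) ^ t.N * t.P (p ^ k)) (h2 : ¬ r ∣ t.D (p ^ k)) :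
    r ∣ Nat.card S := by
  have h3 : t.D (p ^ k) * Nat.card S = (p ^ k) ^ t.N * t.P (p ^ k) := card_eq hp hv h
  rw [← h3] at h1
  exact (hr.dvd_mul.1 h1).resolve_left h2

section

variable {A : Type u} [Group A] [Finite A] {S : Subgroup A} (hA : AlmostSimple A S)
  (hD : ∀ d ∈ charDegrees A, d ∣ 8060774400 ∧ ok d = true)

include hA hD

theorem pr {p : ℕ} (hp : p.Prime) (hd : p ∣ Nat.card S) : p ∣ 8060774400 := by
  obtain ⟨d, h1, h2⟩ := prime_deg hA hp hd
  exact h2.trans (hD d h1).1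

theorem two (hout : Nat.card (Out S) ≤ 2) {a : ℕ} (ha : a ∈ charDegrees S)
    (h1 : a ∣ 8060774400 → ok a = true → False)
    (h2 : 2 * a ∣ 8060774400 → ok (2 * a) = true → False) : False := by
  rcases two_deg hA hout ha with h | h
  · exact h1 (hD _ h).1 (hD _ h).2
  · exact h2 (hD _ h).1 (hD _ h).2

theorem over_ok {c : ℕ} (hc : c ∈ charDegrees S) :
    ∃ x, x ∣ Nat.card (Out S) ∧ c * x ∣ 8060774400 ∧ ok (c * x) = true := by
  have := hA.normal
  have hi : S.index ∣ Nat.card (Cfsg.Out S) := H816.OutEmb.index_dvd S (by rw [hA.cent]; exact bot_le)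
  obtain ⟨d, hd, ⟨x, rfl⟩, h2⟩ := H424.DegTools.clifford_up S hc
  rw [Nat.mul_div_cancel_left _ (H424.DegTools.pos_of_mem hc)] at h2
  exact ⟨x, h2.trans hi, hD _ hd⟩

theorem sp44 {F : Type} [Field F] [Fintype F] (hF : Fintype.card F = 4) (e : S ≃* PSp 2 F) : False := by
  have h1 : 18 ∈ charDegrees S := mem_equiv e (Sp44.eighteen hF)
  obtain ⟨x, h2, h3, h4⟩ := over_ok hA hD h1
  rw [H55.OutGen.card_out_congr e, (Cfsg.Agent.S2600.result (F := F) (f := 2) (by norm_num) (by rw [hF]; norm_num)).2] at h2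
  have h5 : x ∈ (4 : ℕ).divisors := Nat.mem_divisors.2 ⟨h2, by norm_num⟩
  rw [show (4 : ℕ).divisors = {1, 2, 4} by decide +kernel] at h5
  simp only [Finset.mem_insert, Finset.mem_singleton] at h5
  rcases h5 with rfl | rfl | rfl
  · exact low_chk 18 (by decide) h3 h4
  · exact low_chk 36 (by decide) h3 h4
  · exact low_chk 72 (by decide) h3 h4

theorem sp62 {F : Type} [Field F] [Fintype F] (hF : Fintype.card F = 2) (e : S ≃* PSp 3 F) : False := by
  have hsim : IsSimpleGroup (PSp 3 F) := Cfsg.Agent.S0270.result 3 (by norm_num) (by norm_num)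
  have hfin : Finite (PSp 3 F) := Finite.of_equiv S e.toEquiv
  have hna : ¬ IsMulCommutative (PSp 3 F) := by
    intro h
    apply hA.nonab
    refine ⟨⟨fun a b => e.injective ?_⟩⟩
    rw [map_mul, map_mul]
    exact h.is_comm.comm _ _
  obtain ⟨f⟩ := StandardComponent.SpTwoAut.exists_equiv hF
  have h1 : 7 ∈ charDegrees S := mem_equiv (e.trans f) H688.Eight.seven_mem
  obtain ⟨x, h2, h3, h4⟩ := over_ok hA hD h1
  have : Fact (Nat.Prime 2) := ⟨Nat.prime_two⟩
  have h5 := H548.LieNum.card_out_of_mulAut hsim hna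
    (Cfsg.Agent.S0814.result (F := F) 2 1 (by norm_num) (by rw [hF]; norm_num) 3 (by norm_num) (by norm_num))
  rw [H55.OutGen.card_out_congr e, h5] at h2
  have h6 : x = 1 := by
    apply Nat.dvd_one.1
    simpa using h2
  subst h6
  exact low_chk 7 (by decide) h3 h4

theorem lie {r : ℕ} (hr : r.Prime) (h : IsLieTypeChar r S) : False := by
  have := hA.simple
  have := hA.normal
  obtain ⟨t, k, hv, ht, h1, h2⟩ := H690.S8.typ_mem_D S (D := charDegrees A) subset_rfl hr h
  obtain ⟨h3, h4⟩ := hD _ h2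
  obtain ⟨rfl, h5⟩ := no_pp hr h1 h3 h4
  have kp : ∀ {p : ℕ} (hp : p.Prime) (h1 : p ∣ (2 ^ k) ^ t.N * t.P (2 ^ k)) (h2 : ¬ p ∣ t.D (2 ^ k))
      (h3 : ¬ p ∣ 8060774400), False :=
    fun hp h1 h2 h3 => h3 (pr hA hD hp (dvd_typ Nat.prime_two t hv ht hp h1 h2))
  rcases h5 with h5 | h5 | h5 | h5
  · obtain ⟨-, rfl⟩ := H690.S8.typ_prime hv h5
    obtain ⟨rfl, -⟩ := H690.S8.typ_prime hv h5
    exact absurd (hv.2.2 rfl) (by norm_num)
  · have h6 := typ7 hv h5
    simp only [List.mem_cons, List.not_mem_nil, or_false, Prod.mk.injEq] at h6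
    obtain ⟨rfl, rfl⟩ := h6
    exact kp (p := 127) (by norm_num) (by decide +kernel) (by decide +kernel) (by norm_num)
  · have h6 := typ8 hv h5
    simp only [List.mem_cons, List.not_mem_nil, or_false, Prod.mk.injEq] at h6
    rcases h6 with ⟨rfl, rfl⟩ | ⟨rfl, rfl⟩
    · exact kp (p := 257) (by norm_num) (by decide +kernel) (by decide +kernel) (by norm_num)
    · obtain ⟨F, _, _, hF, ⟨e⟩⟩ := ht
      exact sp44 hA hD (by rw [hF]; norm_num) e
  · have h6 := typ9 hv h5
    simp only [List.mem_cons, List.not_mem_nil, or_false, Prod.mk.injEq] at h6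
    rcases h6 with ⟨rfl, rfl⟩ | ⟨rfl, rfl⟩ | ⟨rfl, rfl⟩ | ⟨rfl, rfl⟩
    · exact kp (p := 73) (by norm_num) (by decide +kernel) (by decide +kernel) (by norm_num)
    · exact kp (p := 73) (by norm_num) (by decide +kernel) (by decide +kernel) (by norm_num)
    · exact kp (p := 19) (by norm_num) (by decide +kernel) (by decide +kernel) (by norm_num)
    · obtain ⟨F, _, _, hF, ⟨e⟩⟩ := ht
      exact sp62 hA hD (by rw [hF]; norm_num) e

theorem alt {m : ℕ} (hm : 5 ≤ m) (e : S ≃* alternatingGroup (Fin m)) : False := by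
  rcases Nat.lt_or_ge m 7 with h7 | h7
  · have : m = 5 ∨ m = 6 := by omega
    rcases this with rfl | rfl
    · exact lie hA hD (by norm_num) (lie_five e)
    · exact lie hA hD (r := 3) (by norm_num) (H679.isLie_six ⟨e⟩)
  · have h18 : m ≤ 10 := by
      by_contra hcon
      have h1 := pr hA hD (p := 11) (by norm_num)
        (by rw [Nat.card_congr e.toEquiv]; exact prime_dvd_alt (by norm_num) (by norm_num) hm (by omega))
      norm_num at h1
    have h1 := hD _ (alt_deg hA h7 e)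
    refine low_chk (m - 1) ?_ h1.1 h1.2
    interval_cases m <;> decide

theorem tits (h : Lie.IsoTits S) : False := by
  have h1 := pr hA hD (p := 13) (by norm_num) (by rw [NotCT.Orders.tits h]; norm_num)
  norm_num at h1

theorem spor (h : IsSporadicGroup S) : Spor.IsoHe S := by
  have hout := H489.card_out_sporadic h
  have key : ∀ {a : ℕ}, a ∈ charDegrees S → (a ∣ 8060774400 → ok a = true → False) →
      (2 * a ∣ 8060774400 → ok (2 * a) = true → False) → Spor.IsoHe S :=
    fun ha h1 h2 => (two hA hD hout ha h1 h2).elim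
  have kp : ∀ {p N : ℕ}, p.Prime → Nat.card S = N → p ∣ N → ¬ p ∣ 8060774400 → Spor.IsoHe S :=
    fun hp h1 h2 h3 => (h3 (pr hA hD hp (by rw [h1]; exact h2))).elim
  rcases h with h | h | h | h | h | h | h | h | h | h | h | h | h | h | h | h | h | h | h | h | h | h | h | h | h | h
  · exact kp (p := 11) (by norm_num) (NotCT.Orders.m11 h) (by norm_num) (by norm_num)
  · exact kp (p := 11) (by norm_num) (NotCT.Orders.m12 h) (by norm_num) (by norm_num)
  · exact kp (p := 11) (by norm_num) (NotCT.Orders.m22 h) (by norm_num) (by norm_num)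
  · exact kp (p := 23) (by norm_num) (NotCT.Orders.m23 h) (by norm_num) (by norm_num)
  · exact kp (p := 23) (by norm_num) (NotCT.Orders.m24 h) (by norm_num) (by norm_num)
  · exact kp (p := 11) (by norm_num) (NotCT.Orders.j1 h) (by norm_num) (by norm_num)
  · exact key (H672.SporIM.j2 h).2 (low_chk 36 (by decide)) (low_chk 72 (by decide))
  · exact kp (p := 19) (by norm_num) (NotCT.Orders.j3 h) (by norm_num) (by norm_num)
  · exact kp (p := 43) (by norm_num) (NotCT.Orders.j4 h) (by norm_num) (by norm_num)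
  · exact kp (p := 13) (by norm_num) (NotCT.Orders.co1 h) (by norm_num) (by norm_num)
  · exact kp (p := 23) (by norm_num) (NotCT.Orders.co2 h) (by norm_num) (by norm_num)
  · exact kp (p := 23) (by norm_num) (NotCT.Orders.co3 h) (by norm_num) (by norm_num)
  · exact kp (p := 11) (by norm_num) (NotCT.Orders.mcl h) (by norm_num) (by norm_num)
  · exact kp (p := 11) (by norm_num) (NotCT.Orders.hs h) (by norm_num) (by norm_num)
  · exact kp (p := 13) (by norm_num) (NotCT.Orders.suz h) (by norm_num) (by norm_num)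
  · exact h
  · exact kp (p := 29) (by norm_num) (NotCT.Orders.ru h) (by norm_num) (by norm_num)
  · exact kp (p := 31) (by norm_num) (NotCT.Orders.on h) (by norm_num) (by norm_num)
  · exact kp (p := 67) (by norm_num) (NotCT.Orders.ly h) (by norm_num) (by norm_num)
  · exact kp (p := 13) (by norm_num) (NotCT.Orders.fi22 h) (by norm_num) (by norm_num)
  · exact kp (p := 13) (by norm_num) (NotCT.Orders.fi23 h) (by norm_num) (by norm_num)
  · exact kp (p := 29) (by norm_num) (NotCT.Orders.fi24 h) (by norm_num) (by norm_num)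
  · exact kp (p := 11) (by norm_num) (NotCT.Orders.hn h) (by norm_num) (by norm_num)
  · exact kp (p := 13) (by norm_num) (NotCT.Orders.th h) (by norm_num) (by norm_num)
  · exact kp (p := 47) (by norm_num) (NotCT.Orders.b h) (by norm_num) (by norm_num)
  · exact kp (p := 71) (by norm_num) (NotCT.Orders.m h) (by norm_num) (by norm_num)

theorem main : Spor.IsoHe S := by
  have := hA.simple
  rcases exists_split S hA.nonab with ⟨l, hl, ⟨e⟩⟩ | ⟨r, hr, h⟩ | h | h
  · exact (alt hA hD hl e).elim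
  · exact (lie hA hD hr h).elim
  · exact (tits hA hD h).elim
  · exact spor hA hD h

end

/-- **SOC1 for `He`** -/
theorem soc1 {X : Type v} [Group X] (hX : Spor.IsoHe X) {D : Set ℕ} (hD : H704.S8.Deg 2 X D) :
    H704.S8.Soc1.{u} D X := by
  intro A _ _ S hA h
  obtain ⟨e⟩ := main hA fun d hd => deg_X hX hD (h hd)
  obtain ⟨f⟩ := hX
  exact ⟨e.trans f.symm⟩

end Cfsg.Agent.H548.S8.He
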